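import Groth.Agent.Refuted.K826.Ring
import Groth.Agent.Sga3.H782.LocBound
import Mathlib.Topology.KrullDimension
import Mathlib.RingTheory.Spectrum.Prime.Homeomorph
import Mathlib.RingTheory.KrullDimension.Polynomial
import Mathlib.RingTheory.KrullDimension.Field
import Mathlib.RingTheory.Ideal.Height
import Mathlib.RingTheory.Polynomial.Basic
import Mathlib.RingTheory.MvPolynomial.Ideal
import Mathlib.AlgebraicGeometry.Properties
import Mathlib.Algebra.MvPolynomial.Division

/-!
# Dimension of the two-chart example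

Used by the refutations of S15710, S15711, S15718: `Spec T`, `T = P ⊕ P e₁ ⊕ P e₂`, `P = k[x, y]`, is
irreducible of dimension two, a scheme covered by two copies of it with nonempty intersection is
irreducible of dimension two, and the local rings of `Spec T` at points over the origin have
dimension at least two.
-/

set_option autoImplicit false
universe u
open CategoryTheory AlgebraicGeometry TopologicalSpace TrivSqZeroExt MvPolynomial

namespace Groth.Agent.Refuted.K855.Dim

open Groth.Agent.Refuted.K826

section General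

variable (P : Type u) [CommRing P] (M : Type u) [AddCommGroup M] [Module P M] [Module Pᵐᵒᵖ M]
  [IsCentralScalar P M]

/-- The spectra of `P` and of `P ⊕ M` are homeomorphic. -/
theorem isHomeomorph_comap_fst :
    IsHomeomorph (PrimeSpectrum.comap (TrivSqZeroExt.fstHom P P M).toRingHom) := by
  refine PrimeSpectrum.isHomeomorph_comap _ (fun x => ⟨1, one_pos, inl x, by simp⟩) ?_
  intro z hz
  have hz' : z.fst = 0 := hz
  refine ⟨2, ?_⟩
  have : z = inr z.snd := by
    refine TrivSqZeroExt.ext ?_ ?_
    · simpa using hz'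
    · simp
  rw [this, pow_two, inr_mul_inr]
  exact Submodule.zero_mem _

theorem irreducibleSpace_trivSqZeroExt [IsDomain P] :
    IrreducibleSpace (PrimeSpectrum (TrivSqZeroExt P M)) := by
  have h : IrreducibleSpace (PrimeSpectrum P) := inferInstance
  have h1 := (IrreducibleSpace.isIrreducible_univ (PrimeSpectrum P)).image _
    (isHomeomorph_comap_fst P M).continuous.continuousOn
  rw [Set.image_univ, (isHomeomorph_comap_fst P M).surjective.range_eq] at h1
  exact { isPreirreducible_univ := h1.isPreirreducible, toNonempty := ⟨h1.nonempty.some⟩ }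

theorem topologicalKrullDim_trivSqZeroExt :
    topologicalKrullDim (PrimeSpectrum (TrivSqZeroExt P M)) = ringKrullDim P := by
  rw [← PrimeSpectrum.topologicalKrullDim_eq_ringKrullDim,
    (isHomeomorph_comap_fst P M).topologicalKrullDim_eq]

end General

/-- A space covered by two irreducible open sets that meet is irreducible. -/
theorem irreducibleSpace_of_cover {X : Type*} [TopologicalSpace X] {A B : Set X} (hA : IsOpen A)
    (hiA : IsIrreducible A) (hiB : IsIrreducible B) (hAB : (A ∩ B).Nonempty)
    (hcov : A ∪ B = Set.univ) : IrreducibleSpace X := by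
  have h1 : B ⊆ closure A := by
    refine (subset_closure_inter_of_isPreirreducible_of_isOpen hiB.isPreirreducible hA
      (by rwa [Set.inter_comm])).trans (closure_mono Set.inter_subset_right)
  have h2 : closure A = Set.univ := by
    rw [← Set.univ_subset_iff, ← hcov]
    exact Set.union_subset subset_closure h1
  have h3 : IsIrreducible (Set.univ : Set X) := by
    rw [← h2]
    exact isIrreducible_iff_closure.mpr hiA
  exact { isPreirreducible_univ := h3.isPreirreducible, toNonempty := ⟨h3.nonempty.some⟩ }

/-- A nonempty open subset of an irreducible space is dense. -/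
theorem dense_of_nonempty {X : Type*} [TopologicalSpace X] [IrreducibleSpace X] {U : Set X}
    (hU : IsOpen U) (hne : U.Nonempty) : Dense U :=
  hU.dense hne

section Scheme

variable {X Z : Scheme.{u}} (j₁ j₂ : Z ⟶ X) [IsOpenImmersion j₁] [IsOpenImmersion j₂]

/-- A scheme covered by two copies of an irreducible scheme that meet is irreducible. -/
theorem irreducibleSpace_scheme [IrreducibleSpace Z] (hcov : j₁.opensRange ⊔ j₂.opensRange = ⊤)
    (hne : (j₁.opensRange ⊓ j₂.opensRange : X.Opens) ≠ ⊥) : IrreducibleSpace X := by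
  have hi : ∀ (j : Z ⟶ X) [IsOpenImmersion j], IsIrreducible (j.opensRange : Set X) := by
    intro j _
    have h1 := (IrreducibleSpace.isIrreducible_univ Z).image _ j.continuous.continuousOn
    rwa [Set.image_univ] at h1
  refine irreducibleSpace_of_cover j₁.opensRange.isOpen (hi j₁) (hi j₂) ?_ ?_
  · exact (Opens.ne_bot_iff_nonempty _).mp hne
  · exact congrArg (fun U : X.Opens => (U : Set X)) hcov

/-- The dimension of a scheme covered by two copies of a scheme. -/
theorem topologicalKrullDim_scheme (hcov : j₁.opensRange ⊔ j₂.opensRange = ⊤) :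
    topologicalKrullDim X = topologicalKrullDim Z := by
  refine le_antisymm ?_ j₁.isOpenEmbedding.isInducing.topologicalKrullDim_le
  refine Groth.Agent.Sga3.H782.LocBound.topologicalKrullDim_le_of_openEmbeddings
    (fun i : Bool => (if i then j₁ else j₂ : Z ⟶ X).base) ?_ ?_ ?_
  · rintro (_ | _)
    · exact j₂.isOpenEmbedding
    · exact j₁.isOpenEmbedding
  · intro x
    have hx : x ∈ (j₁.opensRange ⊔ j₂.opensRange : X.Opens) := by rw [hcov]; trivial
    rcases hx with ⟨y, hy⟩ | ⟨y, hy⟩
    · exact ⟨true, y, hy⟩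
    · exact ⟨false, y, hy⟩
  · intro _
    exact le_rfl

/-- The irreducible components of an irreducible space have the dimension of the space. -/
theorem topologicalKrullDim_component {X : Type*} [TopologicalSpace X] [IrreducibleSpace X]
    {C : Set X} (hC : C ∈ irreducibleComponents X) :
    topologicalKrullDim C = topologicalKrullDim X := by
  rw [irreducibleComponents_eq_singleton, Set.mem_singleton_iff] at hC
  subst hC
  exact (Homeomorph.Set.univ X).isHomeomorph.topologicalKrullDim_eq

end Scheme

section Example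

variable (k : Type u) [Field k]

/-- T3 -/
theorem irreducible_T : IrreducibleSpace (Spec (CommRingCat.of (T k))) :=
  irreducibleSpace_trivSqZeroExt (P k) (P k × P k)

theorem dim_T : topologicalKrullDim (Spec (CommRingCat.of (T k))) = (2 : ℕ) := by
  refine (topologicalKrullDim_trivSqZeroExt (P k) (P k × P k)).trans ?_
  rw [MvPolynomial.ringKrullDim_of_isNoetherianRing, ringKrullDim_eq_zero_of_field]
  simp

variable {k}

theorem irreducibleSpace_two {X : Scheme.{u}} (j₁ j₂ : Spec (CommRingCat.of (T k)) ⟶ X)
    [IsOpenImmersion j₁] [IsOpenImmersion j₂] (hcov : j₁.opensRange ⊔ j₂.opensRange = ⊤)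
    (hne : (j₁.opensRange ⊓ j₂.opensRange : X.Opens) ≠ ⊥) : IrreducibleSpace X :=
  have := irreducible_T k
  irreducibleSpace_scheme j₁ j₂ hcov hne

/-- T3' -/
theorem pureDim {X : Scheme.{u}} (j₁ j₂ : Spec (CommRingCat.of (T k)) ⟶ X) [IsOpenImmersion j₁]
    [IsOpenImmersion j₂] (hcov : j₁.opensRange ⊔ j₂.opensRange = ⊤)
    (hne : (j₁.opensRange ⊓ j₂.opensRange : X.Opens) ≠ ⊥) (Z : Set X)
    (hZ : Z ∈ irreducibleComponents (X : Type u)) : topologicalKrullDim Z = (2 : ℕ) := by
  have := irreducibleSpace_two j₁ j₂ hcov hne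
  rw [topologicalKrullDim_component hZ, topologicalKrullDim_scheme j₁ j₂ hcov, dim_T]

/-- The components of the base. -/
theorem pureDim_base (Z : Set (Spec (CommRingCat.of (T k))))
    (hZ : Z ∈ irreducibleComponents ((Spec (CommRingCat.of (T k)) : Scheme.{u}) : Type u)) :
    topologicalKrullDim Z = (2 : ℕ) := by
  have := irreducible_T k
  rw [topologicalKrullDim_component hZ, dim_T]

instance isNoetherianRing_T : IsNoetherianRing (T k) := by
  have : Module.Finite (P k) (T k) :=
    Module.Finite.equiv (R := P k) (M := P k × (P k × P k))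
      (LinearEquiv.refl (P k) (P k × (P k × P k)) : (P k × (P k × P k)) ≃ₗ[P k] T k)
  exact IsNoetherianRing.of_finite (P k) (T k)

theorem two_le_height (p : PrimeSpectrum (T k)) (h0 : (x₀ : T k) ∈ p.asIdeal)
    (h1 : (x₁ : T k) ∈ p.asIdeal) : (2 : ℕ∞) ≤ p.asIdeal.height := by
  let φ : T k →+* P k := (TrivSqZeroExt.fstHom (P k) (P k) (P k × P k)).toRingHom
  have hφ : ∀ z : T k, φ z = z.fst := fun _ => rfl
  have hpX : (Ideal.span {(X 0 : P k)}).IsPrime := by
    rw [Ideal.span_singleton_prime (X_ne_zero 0)]
    exact MvPolynomial.X_prime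
  let I0 : Ideal (T k) := (⊥ : Ideal (P k)).comap φ
  let I1 : Ideal (T k) := (Ideal.span {(X 0 : P k)}).comap φ
  have hp0 : I0.IsPrime := Ideal.IsPrime.comap φ (hK := Ideal.isPrime_bot)
  have hp1 : I1.IsPrime := Ideal.IsPrime.comap φ
  have hp : p.asIdeal.IsPrime := p.isPrime
  have hinr : ∀ m : P k × P k, (inr m : T k) ∈ p.asIdeal := by
    intro m
    refine hp.mem_of_pow_mem 2 ?_
    rw [pow_two, inr_mul_inr]
    exact Submodule.zero_mem _
  have h01 : I0 < I1 := by
    refine lt_of_le_of_ne (Ideal.comap_mono bot_le) ?_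
    intro h
    have h2 : (x₀ : T k) ∈ I1 := by
      change φ x₀ ∈ Ideal.span {(X 0 : P k)}
      rw [hφ, fst_inl]
      exact Ideal.mem_span_singleton_self _
    rw [← h] at h2
    have h3 : φ x₀ ∈ (⊥ : Ideal (P k)) := h2
    rw [hφ, fst_inl, Ideal.mem_bot] at h3
    exact X_ne_zero 0 h3
  have h1p : I1 < p.asIdeal := by
    refine lt_of_le_of_ne ?_ ?_
    · intro z hz
      have hz' : φ z ∈ Ideal.span {(X 0 : P k)} := hz
      rw [hφ, Ideal.mem_span_singleton] at hz'
      obtain ⟨g, hg⟩ := hz'
      rw [← inl_fst_add_inr_snd_eq z, hg, inl_mul]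
      exact Ideal.add_mem _ (Ideal.mul_mem_right _ _ h0) (hinr _)
    · intro h
      rw [← h] at h1
      have h3 : φ x₁ ∈ Ideal.span {(X 0 : P k)} := h1
      rw [hφ, fst_inl, Ideal.mem_span_singleton] at h3
      rw [MvPolynomial.X_dvd_X] at h3
      simp at h3
  have a1 : I0.height < I1.height := Ideal.height_strict_mono_of_isPrime_of_isPrime h01
  have a2 : I1.height < p.asIdeal.height := Ideal.height_strict_mono_of_isPrime_of_isPrime h1p
  have b1 : (1 : ℕ∞) ≤ I1.height := by
    have := Order.add_one_le_of_lt a1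
    exact le_trans (by simp) this
  have b2 := Order.add_one_le_of_lt a2
  refine le_trans ?_ b2
  calc (2 : ℕ∞) = 1 + 1 := by norm_num
    _ ≤ I1.height + 1 := by gcongr

/-- T3'': the points over the centre have codimension 2. -/
theorem two_le_dim (p : PrimeSpectrum (T k)) (h0 : (x₀ : T k) ∈ p.asIdeal)
    (h1 : (x₁ : T k) ∈ p.asIdeal) :
    (2 : WithBot ℕ∞) ≤ ringKrullDim (Localization.AtPrime p.asIdeal) := by
  rw [IsLocalization.AtPrime.ringKrullDim_eq_height p.asIdeal (Localization.AtPrime p.asIdeal)]
  exact WithBot.coe_le_coe.mpr (two_le_height p h0 h1)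

/-- The form with the local ring of the scheme `Spec T`. -/
theorem two_le_dim_stalk (p : Spec (CommRingCat.of (T k))) (h0 : (x₀ : T k) ∈ p.asIdeal)
    (h1 : (x₁ : T k) ∈ p.asIdeal) :
    (2 : WithBot ℕ∞) ≤ ringKrullDim ((Spec (CommRingCat.of (T k))).presheaf.stalk p) := by
  let _ : Algebra (T k) ((Spec (CommRingCat.of (T k))).presheaf.stalk p) :=
    StructureSheaf.stalkAlgebra (T k) p
  have hp : (PrimeSpectrum.asIdeal (R := T k) p).IsPrime := PrimeSpectrum.isPrime (R := T k) p
  have : IsLocalization.AtPrime ((Spec (CommRingCat.of (T k))).presheaf.stalk p)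
      (PrimeSpectrum.asIdeal (R := T k) p) :=
    StructureSheaf.IsLocalization.to_stalk (T k) p
  rw [IsLocalization.AtPrime.ringKrullDim_eq_height (PrimeSpectrum.asIdeal (R := T k) p)
    ((Spec (CommRingCat.of (T k))).presheaf.stalk p)]
  exact WithBot.coe_le_coe.mpr (two_le_height p h0 h1)

/-- The codimension condition for an open set containing every point off the origin. -/
theorem codim (V : (Spec (CommRingCat.of (T k))).Opens)
    (hV : ∀ y : Spec (CommRingCat.of (T k)), (x₀ : T k) ∉ y.asIdeal ∨ (x₁ : T k) ∉ y.asIdeal → y ∈ V)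
    (y : Spec (CommRingCat.of (T k))) (hy : y ∉ V) :
    (2 : WithBot ℕ∞) ≤ ringKrullDim ((Spec (CommRingCat.of (T k))).presheaf.stalk y) := by
  refine two_le_dim_stalk y ?_ ?_
  · by_contra h
    exact hy (hV y (Or.inl h))
  · by_contra h
    exact hy (hV y (Or.inr h))

/-- The complement of the origin (as an open subset of `Spec T`). -/
noncomputable def off : (Spec (CommRingCat.of (T k))).Opens :=
  PrimeSpectrum.basicOpen (x₀ : T k) ⊔ PrimeSpectrum.basicOpen (x₁ : T k)

theorem mem_off (y : Spec (CommRingCat.of (T k))) :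
    y ∈ (off : (Spec (CommRingCat.of (T k))).Opens) ↔
      (x₀ : T k) ∉ y.asIdeal ∨ (x₁ : T k) ∉ y.asIdeal := Iff.rfl

theorem codim_off (y : Spec (CommRingCat.of (T k))) (hy : y ∉ (off : (Spec (CommRingCat.of (T k))).Opens)) :
    (2 : WithBot ℕ∞) ≤ ringKrullDim ((Spec (CommRingCat.of (T k))).presheaf.stalk y) :=
  codim off (fun y h => (mem_off y).mpr h) y hy

end Example

end Groth.Agent.Refuted.K855.Dim
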