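import Groth.Agent.Refuted.K855.CM
import Groth.Agent.Refuted.K855.Dim

/-!
# The nodes T2, T3 in the form of the skeleton
-/

set_option autoImplicit false
universe u
open CategoryTheory AlgebraicGeometry TopologicalSpace TrivSqZeroExt MvPolynomial

namespace Groth.Agent.Refuted.K855.Nodes

open Groth.Agent.Refuted.K826

variable (k : Type u) [Field k]

instance isCohenMacaulayRing_T : LocCoh.IsCohenMacaulayRing (T k) :=
  CM.isCohenMacaulayRing_example k 2

/-- T2 -/
theorem cm_T (p : Ideal (T k)) [p.IsPrime] :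
    LocCoh.IsCohenMacaulayLocalRing (Localization.AtPrime p) :=
  LocCoh.IsCohenMacaulayRing.isCohenMacaulayLocalRing_localization p

/-- T2 for the base. -/
theorem cm_stalk_base (x : Spec (CommRingCat.of (T k))) :
    LocCoh.IsCohenMacaulayLocalRing ((Spec (CommRingCat.of (T k))).presheaf.stalk x) :=
  have : LocCoh.IsCohenMacaulayRing (CommRingCat.of (T k)) := isCohenMacaulayRing_T k
  CM.stalk_Spec (CommRingCat.of (T k)) x

/-- T2': CM of a scheme covered by two copies of Spec T. -/
theorem cm_stalk {X : Scheme.{u}} (j₁ j₂ : Spec (CommRingCat.of (T k)) ⟶ X) [IsOpenImmersion j₁]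
    [IsOpenImmersion j₂] (hcov : j₁.opensRange ⊔ j₂.opensRange = ⊤) (x : X) :
    LocCoh.IsCohenMacaulayLocalRing (X.presheaf.stalk x) := by
  have : LocCoh.IsCohenMacaulayRing (CommRingCat.of (T k)) := isCohenMacaulayRing_T k
  have hx : x ∈ (j₁.opensRange ⊔ j₂.opensRange : X.Opens) := by rw [hcov]; trivial
  rcases hx with hx | hx
  · exact CM.stalk_of_mem_range (CommRingCat.of (T k)) j₁ x hx
  · exact CM.stalk_of_mem_range (CommRingCat.of (T k)) j₂ x hx

end Groth.Agent.Refuted.K855.Nodes
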