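import Groth.Agent.Models2.CIFlat
import Groth.Agent.Ega4C.FlatLocal
import Mathlib.RingTheory.Ideal.GoingUp
import Mathlib.RingTheory.Flat.Stability
import Mathlib.Algebra.TrivSqZeroExt.Basic
import Mathlib.AlgebraicGeometry.Scheme
import Mathlib.AlgebraicGeometry.AffineScheme

/-!
# Finite flat algebras over Cohen-Macaulay rings are Cohen-Macaulay

Used for the refutations of S15710, S15711, S15718: for `P = k[x, y]` the ring
`T = TrivSqZeroExt P (P × P)` is free of rank three over `P`, hence Cohen-Macaulay.
-/

set_option autoImplicit false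

universe u

open IsLocalRing AlgebraicGeometry

namespace Groth.Agent.Refuted.K855.CM

section Ring

variable (P : Type u) [CommRing P] (T : Type u) [CommRing T] [Algebra P T]

/-- The localization of a finite flat algebra over a Cohen-Macaulay ring at a prime is a
Cohen-Macaulay local ring. -/
theorem isCohenMacaulayLocalRing_localization [Module.Finite P T] [Module.Flat P T]
    [LocCoh.IsCohenMacaulayRing P] (q : Ideal T) [hq : q.IsPrime] :
    LocCoh.IsCohenMacaulayLocalRing (Localization.AtPrime q) := by
  have hN : IsNoetherianRing T := IsNoetherianRing.of_finite P T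
  let p : Ideal P := q.comap (algebraMap P T)
  have hp : p.IsPrime := Ideal.IsPrime.comap _
  let φ : Localization.AtPrime p →+* Localization.AtPrime q :=
    Localization.localRingHom p q (algebraMap P T) rfl
  let _ : Algebra (Localization.AtPrime p) (Localization.AtPrime q) := φ.toAlgebra
  have hloc : IsLocalHom (algebraMap (Localization.AtPrime p) (Localization.AtPrime q)) :=
    inferInstanceAs (IsLocalHom (Localization.localRingHom p q (algebraMap P T) rfl))
  have hflat : Module.Flat (Localization.AtPrime p) (Localization.AtPrime q) := by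
    have h : (algebraMap P T).Flat := by
      rw [RingHom.flat_algebraMap_iff]
      infer_instance
    exact h.localRingHom q p rfl
  have hPN : IsNoetherianRing P := inferInstance
  have : IsNoetherianRing (Localization.AtPrime p) :=
    IsLocalization.isNoetherianRing p.primeCompl _ hPN
  have : IsNoetherianRing (Localization.AtPrime q) :=
    IsLocalization.isNoetherianRing q.primeCompl _ hN
  rw [Groth.Agent.Ega4C.FlatLocal.isCM_iff (R := Localization.AtPrime p)
    (S := Localization.AtPrime q)]
  refine ⟨LocCoh.IsCohenMacaulayRing.isCohenMacaulayLocalRing_localization p, ?_⟩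
  have : IsNoetherianRing (EGA4.FibRing (Localization.AtPrime p) (Localization.AtPrime q)) :=
    inferInstanceAs (IsNoetherianRing (_ ⧸ _))
  refine Groth.Agent.CalgB.CMPoly.isCohenMacaulayLocalRing_of_seq [] (by simp)
    (RingTheory.Sequence.IsWeaklyRegular.nil _ _) ?_
  have hdim : Ring.KrullDimLE 0
      (EGA4.FibRing (Localization.AtPrime p) (Localization.AtPrime q)) := by
    rw [Ring.krullDimLE_zero_iff]
    intro I hI
    let r : Ideal (Localization.AtPrime q) := I.comap (Ideal.Quotient.mk _)
    have hr : r.IsPrime := Ideal.IsPrime.comap _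
    have hpr : (maximalIdeal (Localization.AtPrime p)).map
        (algebraMap (Localization.AtPrime p) (Localization.AtPrime q)) ≤ r := by
      intro x hx
      change Ideal.Quotient.mk _ x ∈ I
      rw [Ideal.Quotient.eq_zero_iff_mem.2 hx]
      exact I.zero_mem
    -- the contraction of `r` to `T`
    let r' : Ideal T := r.comap (algebraMap T (Localization.AtPrime q))
    have hr' : r'.IsPrime := Ideal.IsPrime.comap _
    have hr'q : r' ≤ q := by
      have h1 : r ≤ maximalIdeal _ := IsLocalRing.le_maximalIdeal hr.ne_top
      intro x hx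
      have h2 : algebraMap T (Localization.AtPrime q) x ∈ maximalIdeal (Localization.AtPrime q) :=
        h1 hx
      exact (IsLocalization.AtPrime.to_map_mem_maximal_iff (Localization.AtPrime q) q x).1 h2
    have hpr' : p ≤ r'.comap (algebraMap P T) := by
      intro x hx
      change algebraMap T (Localization.AtPrime q) (algebraMap P T x) ∈ r
      have h1 : algebraMap P (Localization.AtPrime p) x ∈ maximalIdeal (Localization.AtPrime p) :=
        (IsLocalization.AtPrime.to_map_mem_maximal_iff (Localization.AtPrime p) p x).2 hx
      have h2 := hpr (Ideal.mem_map_of_mem _ h1)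
      have h3 : algebraMap (Localization.AtPrime p) (Localization.AtPrime q)
          (algebraMap P (Localization.AtPrime p) x) =
          algebraMap T (Localization.AtPrime q) (algebraMap P T x) :=
        Localization.localRingHom_to_map p q (algebraMap P T) rfl x
      rwa [h3] at h2
    have hr'e : r' = q := by
      by_contra hne
      have hlt : r' < q := lt_of_le_of_ne hr'q hne
      have h1 := Ideal.IsIntegral.comap_lt_comap (R := P) hlt
      exact (lt_irrefl _ (lt_of_le_of_lt hpr' h1))
    have hre : r = maximalIdeal (Localization.AtPrime q) := by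
      have h1 : r'.map (algebraMap T (Localization.AtPrime q)) = r :=
        IsLocalization.map_under q.primeCompl (Localization.AtPrime q) r
      rw [← h1, hr'e, Localization.AtPrime.map_eq_maximalIdeal]
    have hmax : r.IsMaximal := by
      rw [hre]
      infer_instance
    have h4 : r.map (Ideal.Quotient.mk _) = I :=
      Ideal.map_comap_of_surjective _ Ideal.Quotient.mk_surjective I
    rw [← h4]
    exact Ideal.IsMaximal.map_of_surjective_of_ker_le Ideal.Quotient.mk_surjective
      (by rw [Ideal.mk_ker]; exact hpr)
  exact Ring.krullDimLE_iff.1 hdim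

/-- A finite flat algebra over a Cohen-Macaulay ring is Cohen-Macaulay. -/
theorem isCohenMacaulayRing_of_finite_flat [Module.Finite P T] [Module.Flat P T]
    [LocCoh.IsCohenMacaulayRing P] : LocCoh.IsCohenMacaulayRing T where
  noetherian := (IsNoetherianRing.of_finite P T).noetherian
  isCohenMacaulayLocalRing_localization q _ := isCohenMacaulayLocalRing_localization P T q

/-- `TrivSqZeroExt P M` with `M` finite free over a Cohen-Macaulay ring `P` is Cohen-Macaulay. -/
theorem isCohenMacaulayRing_trivSqZeroExt (M : Type u) [AddCommGroup M] [Module P M]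
    [Module Pᵐᵒᵖ M] [IsCentralScalar P M] [Module.Finite P M] [Module.Free P M]
    [LocCoh.IsCohenMacaulayRing P] : LocCoh.IsCohenMacaulayRing (TrivSqZeroExt P M) := by
  have : Module.Finite P (TrivSqZeroExt P M) := inferInstanceAs (Module.Finite P (P × M))
  have : Module.Free P (TrivSqZeroExt P M) := inferInstanceAs (Module.Free P (P × M))
  exact isCohenMacaulayRing_of_finite_flat P _

/-- The ring of the example: `P = k[x, y]`, `T = P[e1, e2]/(e1, e2)^2`. -/
theorem isCohenMacaulayRing_example (k : Type u) [Field k] (n : ℕ) :
    LocCoh.IsCohenMacaulayRing (TrivSqZeroExt (MvPolynomial (Fin n) k)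
      (MvPolynomial (Fin n) k × MvPolynomial (Fin n) k)) := by
  have := Groth.Agent.Models2.CIFlat.isCohenMacaulayRing_field k
  have := Groth.Agent.CalgB.CMPoly.isCohenMacaulayRing_mvPolynomial k n
  exact isCohenMacaulayRing_trivSqZeroExt _ _

end Ring

section Scheme

/-- The stalks of the spectrum of a Cohen-Macaulay ring are Cohen-Macaulay. -/
theorem stalk_Spec (T : CommRingCat.{u}) [LocCoh.IsCohenMacaulayRing T] (x : Spec T) :
    LocCoh.IsCohenMacaulayLocalRing ((Spec T).presheaf.stalk x) := by
  have hx : (x : PrimeSpectrum T).asIdeal.IsPrime := (x : PrimeSpectrum T).isPrime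
  have h := LocCoh.IsCohenMacaulayRing.isCohenMacaulayLocalRing_localization
    (x : PrimeSpectrum T).asIdeal (R := T)
  exact Groth.Agent.Ega4C.FlatLocal.isCM_of_ringEquiv
    (Spec.stalkIso T x).symm.commRingCatIsoToRingEquiv h

/-- If `x` lies in the image of an open immersion from the spectrum of a Cohen-Macaulay ring, then
the local ring at `x` is Cohen-Macaulay. -/
theorem stalk_of_mem_range {X : Scheme.{u}} (T : CommRingCat.{u}) [LocCoh.IsCohenMacaulayRing T]
    (j : Spec T ⟶ X) [IsOpenImmersion j] (x : X) (hx : x ∈ Set.range j) :
    LocCoh.IsCohenMacaulayLocalRing (X.presheaf.stalk x) := by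
  obtain ⟨y, rfl⟩ := hx
  exact Groth.Agent.Ega4C.FlatLocal.isCM_of_ringEquiv
    (CategoryTheory.asIso (j.stalkMap y)).commRingCatIsoToRingEquiv.symm (stalk_Spec T y)

/-- A scheme covered by the spectra of Cohen-Macaulay rings (open immersions) has Cohen-Macaulay
local rings. -/
theorem stalk_of_cover {X : Scheme.{u}} {ι : Type*} (T : ι → CommRingCat.{u})
    [∀ i, LocCoh.IsCohenMacaulayRing (T i)] (j : ∀ i, Spec (T i) ⟶ X) [∀ i, IsOpenImmersion (j i)]
    (hj : ∀ x : X, ∃ i, x ∈ Set.range (j i)) (x : X) :
    LocCoh.IsCohenMacaulayLocalRing (X.presheaf.stalk x) := by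
  obtain ⟨i, hi⟩ := hj x
  exact stalk_of_mem_range (T i) (j i) x hi

end Scheme

end Groth.Agent.Refuted.K855.CM
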