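import Groth.Agent.Refuted.K855.Cover
import Groth.Agent.Refuted.K826.Ring

/-!
# The two charts cover `X = Bl_I Y` and `X'' = Bl_J Y`
-/

set_option autoImplicit false
universe u
open CategoryTheory AlgebraicGeometry TopologicalSpace BlowUp TrivSqZeroExt MvPolynomial

namespace Groth.Agent.Refuted.K855.Cover

open Groth.Agent.Divis.BlowChart Groth.Agent.Refuted.K826

variable {k : Type u} [Field k]

theorem inr_sq (m : P k × P k) : (inr m : T k) ^ 2 = 0 := by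
  rw [pow_two, inr_mul_inr]

theorem mem_cI₀ : (x₀ : T k) ^ 2 ∈ cI k := Ideal.subset_span (by simp)
theorem mem_cI₁ : (x₁ : T k) ^ 2 ∈ cI k := Ideal.subset_span (by simp)
theorem mem_cJ₀ : (x₀ : T k) ∈ cJ k := Ideal.subset_span (by simp)
theorem mem_cJ₁ : (x₁ : T k) ∈ cJ k := Ideal.subset_span (by simp)

variable {X : Scheme.{u}} {b : X ⟶ Spec (CommRingCat.of (T k))}

/-- The charts of `x²` and `y²` cover the blow-up of `I = (x², xy, y², η)`. -/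
theorem cover_cI (hb : IsBlowUp b (idl (cI k))) :
    chartLocus (cI k) b (x₀ ^ 2) ⊔ chartLocus (cI k) b (x₁ ^ 2) = ⊤ := by
  refine chartLocus_sup hb rfl _ _ mem_cI₀ mem_cI₁ ?_
  rintro c (rfl | rfl | rfl | rfl)
  · exact Or.inl rfl
  · exact Or.inr (Or.inr (Or.inl (mul_pow _ _ _)))
  · exact Or.inr (Or.inl rfl)
  · exact Or.inr (Or.inr (Or.inr (inr_sq _)))

/-- The charts of `x` and `y` cover the blow-up of `J = (x, y, e₁, e₂)`. -/
theorem cover_cJ (hb : IsBlowUp b (idl (cJ k))) :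
    chartLocus (cJ k) b x₀ ⊔ chartLocus (cJ k) b x₁ = ⊤ := by
  refine chartLocus_sup hb rfl _ _ mem_cJ₀ mem_cJ₁ ?_
  rintro c (rfl | rfl | rfl | rfl)
  · exact Or.inl rfl
  · exact Or.inr (Or.inl rfl)
  · exact Or.inr (Or.inr (Or.inr (inr_sq _)))
  · exact Or.inr (Or.inr (Or.inr (inr_sq _)))

/-- The form with charts `j₁, j₂`. -/
theorem cover_cI' (hb : IsBlowUp b (idl (cI k))) {Z₁ Z₂ : Scheme.{u}} (j₁ : Z₁ ⟶ X) (j₂ : Z₂ ⟶ X)
    [IsOpenImmersion j₁] [IsOpenImmersion j₂] (hr₁ : j₁.opensRange = chartLocus (cI k) b (x₀ ^ 2))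
    (hr₂ : j₂.opensRange = chartLocus (cI k) b (x₁ ^ 2)) : j₁.opensRange ⊔ j₂.opensRange = ⊤ := by
  rw [hr₁, hr₂, cover_cI hb]

theorem cover_cJ' (hb : IsBlowUp b (idl (cJ k))) {Z₁ Z₂ : Scheme.{u}} (j₁ : Z₁ ⟶ X) (j₂ : Z₂ ⟶ X)
    [IsOpenImmersion j₁] [IsOpenImmersion j₂] (hr₁ : j₁.opensRange = chartLocus (cJ k) b x₀)
    (hr₂ : j₂.opensRange = chartLocus (cJ k) b x₁) : j₁.opensRange ⊔ j₂.opensRange = ⊤ := by
  rw [hr₁, hr₂, cover_cJ hb]

end Groth.Agent.Refuted.K855.Cover
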