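import Groth.Agent.Refuted.K855.Dim

/-!
# The two charts meet
-/

set_option autoImplicit false
universe u
open CategoryTheory CategoryTheory.Limits AlgebraicGeometry TopologicalSpace TrivSqZeroExt MvPolynomial

namespace Groth.Agent.Refuted.K855.Meet

open Groth.Agent.Refuted.K826

/-- The images of `j₁` and `j₂` meet if there is a commutative square from a nonempty scheme. -/
theorem inf_ne_bot {X Z₁ Z₂ Z₁₂ : Scheme.{u}} (g₁ : Z₁₂ ⟶ Z₁) (g₂ : Z₁₂ ⟶ Z₂) (j₁ : Z₁ ⟶ X)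
    (j₂ : Z₂ ⟶ X) [IsOpenImmersion j₁] [IsOpenImmersion j₂] (w : g₁ ≫ j₁ = g₂ ≫ j₂)
    [h : Nonempty Z₁₂] : (j₁.opensRange ⊓ j₂.opensRange : X.Opens) ≠ ⊥ := by
  obtain ⟨z⟩ := h
  rw [Opens.ne_bot_iff_nonempty]
  refine ⟨(g₁ ≫ j₁) z, ⟨g₁ z, by simp⟩, ⟨g₂ z, ?_⟩⟩
  rw [w]
  simp

theorem inf_ne_bot_of_isPullback {X : Scheme.{u}} {C₁ C₂ C₁₂ : Type u} [CommRing C₁] [CommRing C₂]
    [CommRing C₁₂] [Nontrivial C₁₂] (r₁ : C₁ →+* C₁₂) (r₂ : C₂ →+* C₁₂)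
    (j₁ : Spec (CommRingCat.of C₁) ⟶ X) (j₂ : Spec (CommRingCat.of C₂) ⟶ X) [IsOpenImmersion j₁]
    [IsOpenImmersion j₂]
    (hpb : IsPullback (Spec.map (CommRingCat.ofHom r₁)) (Spec.map (CommRingCat.ofHom r₂)) j₁ j₂) :
    (j₁.opensRange ⊓ j₂.opensRange : X.Opens) ≠ ⊥ :=
  have : Nonempty (Spec (CommRingCat.of C₁₂)) := inferInstanceAs (Nonempty (PrimeSpectrum C₁₂))
  inf_ne_bot _ _ j₁ j₂ hpb.w

/-- `T[1/t]` is not zero. -/
instance nontrivial_TL (k : Type u) [Field k] : Nontrivial (Localization.Away (x₁ : T k)) := by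
  refine not_subsingleton_iff_nontrivial.mp fun h => ?_
  rw [IsLocalization.subsingleton_iff (M := Submonoid.powers (x₁ : T k))] at h
  obtain ⟨n, hn⟩ := h
  have h1 : (x₁ : T k) ^ n = 0 := hn
  have h2 : (X 1 : P k) ^ n = 0 := by
    have h3 := congrArg (TrivSqZeroExt.fstHom (P k) (P k) (P k × P k)) h1
    rw [map_pow, map_zero] at h3
    simp at h3
  exact pow_ne_zero n (X_ne_zero 1) h2

end Groth.Agent.Refuted.K855.Meet
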