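import Groth.Agent.Divis.BlowChart

/-!
# The charts of the blow-up of an affine scheme that cover it

Used by the refutations of S15710, S15711, S15718: if every generator `c` of `I` is `a₁` or `a₂` or
satisfies `c² = a₁ a₂` or `c² = 0`, then the charts of `a₁, a₂` cover the blow-up.
-/

set_option autoImplicit false
universe u
open CategoryTheory AlgebraicGeometry TopologicalSpace BlowUp

namespace Groth.Agent.Refuted.K855.Cover

open Groth.Agent.Divis.BlowChart

variable {A : Type u} [CommRing A] {I : Ideal A} {X : Scheme.{u}}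
  {b : X ⟶ Spec (CommRingCat.of A)}

/-- If the inverse image ideal of `I = (s)` is invertible and every `c ∈ s` is `a₁` or `a₂` or
satisfies `c² = a₁ a₂` or `c² = 0`, then locally `a₁` or `a₂` generates it. -/
theorem chartLocus_sup_of_isEffCartier (hE : IsEffCartierIdeal ((idl I).comap b)) {s : Set A}
    (hs : I = Ideal.span s) (a₁ a₂ : A) (ha₁ : a₁ ∈ I) (ha₂ : a₂ ∈ I)
    (h : ∀ c ∈ s, c = a₁ ∨ c = a₂ ∨ c ^ 2 = a₁ * a₂ ∨ c ^ 2 = 0) :
    chartLocus I b a₁ ⊔ chartLocus I b a₂ = ⊤ := by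
  rw [eq_top_iff]
  intro x' _
  obtain ⟨U, hxU, f, hf, hfU⟩ := hE x'
  let r : A →+* Γ(X, U.1) := (resT X U.1).comp (glob b)
  have hr : ∀ a : A, r a = resT X U.1 (glob b a) := fun _ => rfl
  have hI : I.map r = Ideal.span {f} := by
    rw [← hfU]
    exact (comap_idl_ideal I b U).symm
  -- the cofactors
  have hcof : ∀ a ∈ I, ∃ g : Γ(X, U.1), r a = f * g := by
    intro a ha
    have h1 : r a ∈ I.map r := Ideal.mem_map_of_mem _ ha
    rw [hI, Ideal.mem_span_singleton] at h1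
    exact h1
  let P : Ideal Γ(X, U.1) :=
    (IsLocalRing.maximalIdeal (X.presheaf.stalk x')).comap (X.presheaf.germ U.1 x' hxU).hom
  have hPp : P.IsPrime := Ideal.IsPrime.comap _
  have hP : ∀ g : Γ(X, U.1), g ∉ P ↔ x' ∈ X.basicOpen g := by
    intro g
    rw [Scheme.mem_basicOpen _ _ _ hxU, Ideal.mem_comap, IsLocalRing.mem_maximalIdeal,
      mem_nonunits_iff, not_not]
  have hmem : ∀ (a : A) (g : Γ(X, U.1)), r a = f * g → g ∉ P → x' ∈ chartLocus I b a :=
    fun a g hag hg => basicOpen_le_chartLocus I b a U f g hfU hag ((hP g).1 hg)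
  -- some generator has a cofactor outside of `P`
  have hex : ∃ c ∈ s, ∃ g : Γ(X, U.1), r c = f * g ∧ g ∉ P := by
    by_contra hcon
    push Not at hcon
    have h2 : I.map r ≤ Ideal.span {f} * P := by
      rw [hs, Ideal.map_span, Ideal.span_le]
      rintro _ ⟨c, hc, rfl⟩
      obtain ⟨g, hg⟩ := hcof c (by rw [hs]; exact Ideal.subset_span hc)
      rw [SetLike.mem_coe, Ideal.mem_span_singleton_mul]
      exact ⟨g, hcon c hc g hg, hg.symm⟩
    have h4 : f ∈ Ideal.span {f} * P := h2 (by rw [hI]; exact Ideal.mem_span_singleton_self f)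
    rw [Ideal.mem_span_singleton_mul] at h4
    obtain ⟨z, hz, hz'⟩ := h4
    have h5 : z = 1 := by
      have : f * z = f * 1 := by rw [hz', mul_one]
      exact (mul_cancel_left_mem_nonZeroDivisors hf).1 this
    rw [h5] at hz
    exact hPp.ne_top ((Ideal.eq_top_iff_one _).mpr hz)
  have hf2 : f ^ 2 ∈ nonZeroDivisors Γ(X, U.1) := pow_mem hf 2
  obtain ⟨c, hc, g, hg, hgP⟩ := hex
  rw [Opens.mem_sup]
  rcases h c hc with rfl | rfl | h3 | h3
  · exact Or.inl (hmem _ g hg hgP)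
  · exact Or.inr (hmem _ g hg hgP)
  · obtain ⟨g₁, hg₁⟩ := hcof a₁ ha₁
    obtain ⟨g₂, hg₂⟩ := hcof a₂ ha₂
    refine Or.inl (hmem _ g₁ hg₁ ?_)
    intro h4
    have h5 : f ^ 2 * g ^ 2 = f ^ 2 * (g₁ * g₂) := by
      have h6 := congrArg r h3
      rw [map_pow, map_mul, hg, hg₁, hg₂] at h6
      calc f ^ 2 * g ^ 2 = (f * g) ^ 2 := by ring
        _ = f * g₁ * (f * g₂) := h6
        _ = f ^ 2 * (g₁ * g₂) := by ring
    have h7 : g ^ 2 = g₁ * g₂ := (mul_cancel_left_mem_nonZeroDivisors hf2).1 h5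
    refine hgP (hPp.mem_of_pow_mem 2 ?_)
    rw [h7]
    exact Ideal.mul_mem_right _ _ h4
  · exfalso
    have h5 : f ^ 2 * g ^ 2 = f ^ 2 * 0 := by
      have h6 := congrArg r h3
      rw [map_pow, map_zero, hg] at h6
      rw [mul_zero, ← h6]
      ring
    have h7 : g ^ 2 = 0 := (mul_cancel_left_mem_nonZeroDivisors hf2).1 h5
    refine hgP (hPp.mem_of_pow_mem 2 ?_)
    rw [h7]
    exact P.zero_mem

/-- G3 -/
theorem chartLocus_sup (hb : IsBlowUp b (idl I)) {s : Set A} (hs : I = Ideal.span s) (a₁ a₂ : A)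
    (ha₁ : a₁ ∈ I) (ha₂ : a₂ ∈ I)
    (h : ∀ c ∈ s, c = a₁ ∨ c = a₂ ∨ c ^ 2 = a₁ * a₂ ∨ c ^ 2 = 0) :
    chartLocus I b a₁ ⊔ chartLocus I b a₂ = ⊤ :=
  chartLocus_sup_of_isEffCartier hb.1 hs a₁ a₂ ha₁ ha₂ h

end Groth.Agent.Refuted.K855.Cover
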